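import Mathlib.RingTheory.Nilpotent.Exp
import Mathlib.RingTheory.Polynomial.Quotient
import Mathlib.RingTheory.Ideal.Quotient.Operations
import Mathlib.Algebra.Polynomial.AlgebraMap
import Mathlib.Tactic.LinearCombination

/-!
# Logarithms of unipotent elements
-/

open Polynomial

namespace Groth.Agent.MilnorMoore

variable {A : Type*} [Ring A] [Algebra ℚ A]

lemma exp_expand {C : Type*} [CommRing C] [Algebra ℚ C] {a : C} (ha : IsNilpotent a) :
    ∃ w, IsNilpotent.exp a = 1 + a + a ^ 2 * w := by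
  obtain ⟨k, hk⟩ := ha
  rw [IsNilpotent.exp_eq_sum (k := k + 2) (pow_eq_zero_of_le (by omega) hk)]
  refine ⟨∑ i ∈ Finset.range k, (((i + 2).factorial : ℚ)⁻¹) • a ^ i, ?_⟩
  rw [Finset.sum_range_succ', Finset.sum_range_succ', Finset.mul_sum]
  simp [pow_add, mul_comm, add_assoc, add_comm, add_left_comm]

/-- The polynomial ring modulo `X ^ N`. -/
abbrev Trunc (N : ℕ) := (ℚ[X] ⧸ Ideal.span {(X : ℚ[X]) ^ N})

lemma exists_log_trunc (N : ℕ) : ∃ e : Trunc N, IsNilpotent e ∧
    IsNilpotent.exp e = 1 + Ideal.Quotient.mk _ X := by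
  let t : Trunc N := Ideal.Quotient.mk _ X
  have htN : t ^ N = 0 := by
    rw [← map_pow]; exact Ideal.Quotient.eq_zero_iff_mem.mpr (Ideal.subset_span rfl)
  have ht : ∀ y, IsNilpotent (t * y) := fun y => ⟨N, by rw [mul_pow, htN, zero_mul]⟩
  suffices ∀ n, ∃ q r, IsNilpotent.exp (t * q) - (1 + t) = t ^ (n + 1) * r by
    obtain ⟨q, r, h⟩ := this N
    refine ⟨t * q, ht q, ?_⟩
    rw [pow_succ, htN, zero_mul, zero_mul, sub_eq_zero] at h
    exact h
  intro n
  induction n with
  | zero => exact ⟨0, -1, by simp only [mul_zero, IsNilpotent.exp_zero]; ring⟩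
  | succ n ih =>
    obtain ⟨q, r, h⟩ := ih
    obtain ⟨w₀, hw₀⟩ := exp_expand (ht q)
    obtain ⟨w, hw⟩ := exp_expand (ht (-(t ^ n * r)))
    refine ⟨q - t ^ n * r,
      (-r) * (q + t * q ^ 2 * w₀) + IsNilpotent.exp (t * q) * t ^ n * r ^ 2 * w, ?_⟩
    rw [show t * (q - t ^ n * r) = t * q + t * -(t ^ n * r) by ring,
      IsNilpotent.exp_add_of_commute (Commute.all _ _) (ht q) (ht _), hw]
    have h' : IsNilpotent.exp (t * q) = 1 + t + t ^ (n + 1) * r := by rw [← h]; ring
    linear_combination (norm := ring_nf) h - t ^ (n + 1) * r * hw₀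

/-- Every unipotent element is an exponential of an element expressed polynomially in it. -/
theorem exists_log {t : A} (ht : IsNilpotent t) :
    ∃ p : ℚ[X], IsNilpotent (aeval t p) ∧ IsNilpotent.exp (aeval t p) = 1 + t := by
  obtain ⟨N, hN⟩ := ht
  obtain ⟨e, he, hexp⟩ := exists_log_trunc N
  obtain ⟨p, rfl⟩ := Ideal.Quotient.mk_surjective e
  let ψ : Trunc N →ₐ[ℚ] A := Ideal.Quotient.liftₐ _ (aeval t) fun q hq => by
    obtain ⟨r, rfl⟩ := Ideal.mem_span_singleton'.mp hq
    simp [hN]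
  refine ⟨p, he.map ψ, ?_⟩
  have := congr_arg ψ hexp
  rw [IsNilpotent.map_exp he] at this
  simpa [ψ] using this

/-- The exponential is injective on commuting nilpotent elements. -/
theorem exp_inj {a b : A} (hc : Commute a b) (ha : IsNilpotent a) (hb : IsNilpotent b)
    (h : IsNilpotent.exp a = IsNilpotent.exp b) : a = b := by
  have hd : IsNilpotent (a - b) := hc.isNilpotent_sub ha hb
  have h1 : IsNilpotent.exp (a - b) = 1 := by
    rw [sub_eq_add_neg, IsNilpotent.exp_add_of_commute hc.neg_right ha hb.neg, h,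
      IsNilpotent.exp_mul_exp_neg_self hb]
  obtain ⟨k, hk⟩ := hd
  rw [IsNilpotent.exp_eq_sum (k := k + 2) (pow_eq_zero_of_le (by omega) hk),
    Finset.sum_range_succ', Finset.sum_range_succ'] at h1
  let x := a - b
  let w : A := ∑ i ∈ Finset.range k, (((i + 2).factorial : ℚ)⁻¹) • x ^ i
  have h2 : x * (1 + x * w) = 0 := by
    have : x * (x * w) = ∑ i ∈ Finset.range k, (((i + 2).factorial : ℚ)⁻¹) • x ^ (i + 2) := by
      simp only [w, Finset.mul_sum, mul_smul_comm, ← pow_succ', add_assoc]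
    rw [mul_add, mul_one, this, add_comm]
    have h3 : ∑ i ∈ Finset.range k, (((i + 2).factorial : ℚ)⁻¹) • x ^ (i + 2) + (x + 1) = 1 := by
      simpa [x, add_assoc] using h1
    rw [← add_assoc] at h3
    exact add_eq_right.mp h3
  have hxw : IsNilpotent (x * w) := by
    have : Commute x w := Commute.sum_right _ _ _ fun i _ => ((Commute.refl x).pow_right i).smul_right _
    exact this.isNilpotent_mul_right ⟨k, hk⟩
  have hu : IsUnit (1 + x * w) := IsNilpotent.isUnit_one_add hxw
  exact sub_eq_zero.mp (hu.mul_left_eq_zero.mp h2)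

end Groth.Agent.MilnorMoore
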