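import Mathlib.RingTheory.Bialgebra.Basic
import Mathlib.Algebra.Lie.UniversalEnveloping
import Mathlib.RingTheory.Flat.Basic
import Mathlib.LinearAlgebra.Basis.VectorSpace
import Mathlib.RingTheory.TensorProduct.Basic
import Mathlib.Algebra.CharZero.Defs
import Groth.Prelude.Def_SGA3y
import Mathlib.Tactic.NoncommRing

/-!
# The enveloping algebra of the primitive elements injects
-/

open TensorProduct
attribute [local instance] LieRing.ofAssociativeRing

noncomputable section
namespace Groth.Agent.MilnorMoore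

variable {k : Type*} [Field k] {L : Type*} [LieRing L] [LieAlgebra k L]

local notation "U" => UniversalEnvelopingAlgebra k L
local notation "ι" => UniversalEnvelopingAlgebra.ι k (L := L)

variable (k L) in
/-- The degree filtration. -/
def F (n : ℕ) : Submodule k U :=
  (Submodule.span k {1} ⊔ LinearMap.range (LieHom.toLinearMap (ι))) ^ n

variable (k L) in
/-- Tensors of bounded total degree. -/
def T (n : ℕ) : Submodule k (U ⊗[k] U) :=
  Submodule.span k {t | ∃ (i j : ℕ) (a b : U), i + j ≤ n ∧ a ∈ F k L i ∧ b ∈ F k L j ∧ t = a ⊗ₜ[k] b}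

variable (k L) in
/-- Tensors of bounded degree in each factor. -/
def G (n : ℕ) : Submodule k (U ⊗[k] U) :=
  LinearMap.range (TensorProduct.map (F k L n).subtype (F k L n).subtype)

variable (k L) in
/-- The comultiplication. -/
def comulU : U →ₐ[k] U ⊗[k] U :=
  UniversalEnvelopingAlgebra.lift k
    { toFun := fun a => ι a ⊗ₜ[k] 1 + 1 ⊗ₜ[k] ι a
      map_add' := fun a b => by simp only [map_add, TensorProduct.add_tmul, TensorProduct.tmul_add]; abel
      map_smul' := fun c a => by
        simp only [map_smul, TensorProduct.smul_tmul', TensorProduct.tmul_smul, smul_add, RingHom.id_apply]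
      map_lie' := fun {a b} => by
        simp only [LieHom.map_lie, LieRing.of_associative_ring_bracket, add_mul, mul_add,
          Algebra.TensorProduct.tmul_mul_tmul, one_mul, mul_one, TensorProduct.sub_tmul,
          TensorProduct.tmul_sub]
        abel }

lemma comulU_ι (a : L) : comulU k L (ι a) = ι a ⊗ₜ[k] 1 + 1 ⊗ₜ[k] ι a := by
  rw [comulU, UniversalEnvelopingAlgebra.lift_ι_apply]
  rfl

lemma one_mem_base : (1 : U) ∈ Submodule.span k {1} ⊔ LinearMap.range (LieHom.toLinearMap (ι)) :=
  Submodule.mem_sup_left (Submodule.mem_span_singleton_self _)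

lemma F_succ (n : ℕ) : F k L (n + 1) =
    F k L n * (Submodule.span k {1} ⊔ LinearMap.range (LieHom.toLinearMap (ι))) := pow_succ _ _

lemma F_mono {m n : ℕ} (h : m ≤ n) : F k L m ≤ F k L n := by
  induction n, h using Nat.le_induction with
  | base => exact le_rfl
  | succ n _ ih =>
    refine ih.trans fun x hx => ?_
    rw [F_succ, ← mul_one x]
    exact Submodule.mul_mem_mul hx one_mem_base

lemma one_mem_F (n : ℕ) : (1 : U) ∈ F k L n := by
  apply F_mono (Nat.zero_le n)
  rw [F, pow_zero]
  exact Submodule.one_le.mp le_rfl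

lemma ι_mem (a : L) : ι a ∈ F k L 1 := by
  rw [F, pow_one]; exact Submodule.mem_sup_right ⟨a, rfl⟩

lemma mul_mem_F {i j : ℕ} {a b : U} (ha : a ∈ F k L i) (hb : b ∈ F k L j) :
    a * b ∈ F k L (i + j) := by
  rw [F, pow_add]; exact Submodule.mul_mem_mul ha hb

lemma mul_ι_mem {i : ℕ} {a : U} (ha : a ∈ F k L i) (x : L) : a * ι x ∈ F k L (i + 1) :=
  mul_mem_F ha (ι_mem x)

/-- Induction along the filtration. -/
@[elab_as_elim]
lemma F_induction {n : ℕ} {motive : U → Prop} {u : U} (hu : u ∈ F k L (n + 1))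
    (hone : ∀ c ∈ F k L n, motive c) (hι : ∀ c ∈ F k L n, ∀ a, motive (c * ι a))
    (hadd : ∀ x y, motive x → motive y → motive (x + y)) : motive u := by
  rw [F_succ] at hu
  refine Submodule.mul_induction_on hu (fun c hc v hv => ?_) hadd
  obtain ⟨y, hy, z, ⟨a, rfl⟩, rfl⟩ := Submodule.mem_sup.mp hv
  obtain ⟨r, rfl⟩ := Submodule.mem_span_singleton.mp hy
  rw [mul_add, mul_smul_comm, mul_one]
  exact hadd _ _ (hone _ ((F k L n).smul_mem r hc)) (hι c hc a)

lemma comm_mem (a : L) : ∀ (n : ℕ), ∀ b ∈ F k L n, ι a * b - b * ι a ∈ F k L n := by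
  intro n
  induction n with
  | zero =>
    intro b hb
    rw [F, pow_zero] at hb
    obtain ⟨r, rfl⟩ := Submodule.mem_one.mp hb
    rw [Algebra.commutes, sub_self]
    exact zero_mem _
  | succ n ih =>
    intro b hb
    refine F_induction hb (fun c hc => F_mono (Nat.le_succ n) (ih c hc)) (fun c hc a' => ?_)
      fun x y hx hy => ?_
    · have : ι a * (c * ι a') - c * ι a' * ι a = (ι a * c - c * ι a) * ι a' + c * ι ⁅a, a'⁆ := by
        rw [LieHom.map_lie, LieRing.of_associative_ring_bracket]; noncomm_ring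
      rw [this]
      exact add_mem (mul_ι_mem (ih c hc) a') (mul_ι_mem hc _)
    · rw [show ι a * (x + y) - (x + y) * ι a = (ι a * x - x * ι a) + (ι a * y - y * ι a) by noncomm_ring]
      exact add_mem hx hy

lemma mul'_mem {n : ℕ} {t : U ⊗[k] U} (ht : t ∈ T k L n) : LinearMap.mul' k U t ∈ F k L n := by
  induction ht using Submodule.span_induction with
  | mem t ht =>
    obtain ⟨i, j, a, b, hij, ha, hb, rfl⟩ := ht
    rw [LinearMap.mul'_apply]
    exact F_mono hij (mul_mem_F ha hb)
  | zero => simp
  | add x y _ _ hx hy => rw [map_add]; exact add_mem hx hy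
  | smul r x _ hx => rw [map_smul]; exact Submodule.smul_mem _ r hx

lemma mul'_step {n : ℕ} (x : L) {t : U ⊗[k] U} (ht : t ∈ T k L n) :
    LinearMap.mul' k U (t * comulU k L (ι x)) - 2 • (LinearMap.mul' k U t * ι x) ∈ F k L n := by
  induction ht using Submodule.span_induction with
  | mem t ht =>
    obtain ⟨i, j, a, b, hij, ha, hb, rfl⟩ := ht
    rw [comulU_ι, mul_add, Algebra.TensorProduct.tmul_mul_tmul, Algebra.TensorProduct.tmul_mul_tmul,
      map_add, LinearMap.mul'_apply, LinearMap.mul'_apply, LinearMap.mul'_apply, mul_one, mul_one,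
      show a * ι x * b + a * (b * ι x) - 2 • (a * b * ι x) = a * (ι x * b - b * ι x) by noncomm_ring]
    exact F_mono hij (mul_mem_F ha (comm_mem x j b hb))
  | zero => simp
  | add s t _ _ hs ht =>
    rw [add_mul, map_add, map_add, add_mul, nsmul_add, add_sub_add_comm]
    exact add_mem hs ht
  | smul r s _ hs =>
    rw [smul_mul_assoc, map_smul, map_smul, smul_mul_assoc, smul_comm, ← smul_sub]
    exact Submodule.smul_mem _ r hs

lemma comulU_mem : ∀ (n : ℕ), ∀ u ∈ F k L n, comulU k L u ∈ T k L n := by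
  intro n
  induction n with
  | zero =>
    intro u hu
    rw [F, pow_zero] at hu
    obtain ⟨r, rfl⟩ := Submodule.mem_one.mp hu
    rw [AlgHom.commutes, Algebra.algebraMap_eq_smul_one]
    exact Submodule.smul_mem _ r (Submodule.subset_span ⟨0, 0, 1, 1, le_rfl, one_mem_F 0, one_mem_F 0,
      Algebra.TensorProduct.one_def⟩)
  | succ n ih =>
    intro u hu
    have hmono : T k L n ≤ T k L (n + 1) := Submodule.span_mono fun t ⟨i, j, a, b, h, r⟩ =>
      ⟨i, j, a, b, h.trans (Nat.le_succ n), r⟩
    refine F_induction hu (fun c hc => hmono (ih c hc)) (fun c hc x => ?_)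
      fun x y hx hy => by rw [map_add]; exact add_mem hx hy
    rw [map_mul]
    have h := ih c hc
    generalize comulU k L c = t at h ⊢
    induction h using Submodule.span_induction with
    | mem t ht =>
      obtain ⟨i, j, a, b, hij, ha, hb, rfl⟩ := ht
      rw [comulU_ι, mul_add, Algebra.TensorProduct.tmul_mul_tmul, Algebra.TensorProduct.tmul_mul_tmul,
        mul_one, mul_one]
      exact add_mem (Submodule.subset_span ⟨i + 1, j, _, _, by omega, mul_ι_mem ha x, hb, rfl⟩)
        (Submodule.subset_span ⟨i, j + 1, _, _, by omega, ha, mul_ι_mem hb x, rfl⟩)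
    | zero => simp
    | add s t _ _ hs ht => rw [add_mul]; exact add_mem hs ht
    | smul r s _ hs => rw [smul_mul_assoc]; exact Submodule.smul_mem _ r hs

lemma tmul_mem_G {n : ℕ} {a b : U} (ha : a ∈ F k L n) (hb : b ∈ F k L n) : a ⊗ₜ[k] b ∈ G k L n :=
  ⟨(⟨a, ha⟩ : F k L n) ⊗ₜ[k] (⟨b, hb⟩ : F k L n), rfl⟩

lemma two_power : ∀ (n : ℕ), ∀ u ∈ F k L (n + 1),
    LinearMap.mul' k U (comulU k L u) - (2 ^ (n + 1) : ℕ) • u ∈ F k L n := by
  intro n
  induction n with
  | zero =>
    intro u hu
    refine F_induction hu (fun c hc => ?_) (fun c hc a => ?_) fun x y hx hy => ?_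
    · exact sub_mem (mul'_mem (comulU_mem 0 c hc)) (nsmul_mem hc _)
    · have hc' := hc
      rw [F, pow_zero] at hc'
      obtain ⟨r, rfl⟩ := Submodule.mem_one.mp hc'
      rw [Algebra.algebraMap_eq_smul_one, smul_one_mul, map_smul, comulU_ι]
      simp [two_smul, smul_add]
    · rw [map_add, map_add, nsmul_add, add_sub_add_comm]; exact add_mem hx hy
  | succ n ih =>
    intro u hu
    refine F_induction hu (fun c hc => ?_) (fun c hc a => ?_) fun x y hx hy => ?_
    · exact sub_mem (mul'_mem (comulU_mem _ c hc)) (nsmul_mem hc _)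
    · have h1 := mul'_step a (comulU_mem _ c hc)
      rw [← map_mul] at h1
      have h2 := mul_ι_mem (ih c hc) a
      have e : LinearMap.mul' k U (comulU k L (c * ι a)) - (2 ^ (n + 1 + 1) : ℕ) • (c * ι a) =
          (LinearMap.mul' k U (comulU k L (c * ι a)) - 2 • (LinearMap.mul' k U (comulU k L c) * ι a)) +
          2 • ((LinearMap.mul' k U (comulU k L c) - (2 ^ (n + 1) : ℕ) • c) * ι a) := by
        rw [sub_mul, nsmul_sub, smul_mul_assoc, smul_smul, ← pow_succ']
        abel
      rw [e]
      exact add_mem h1 (nsmul_mem h2 _)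
    · rw [map_add, map_add, nsmul_add, add_sub_add_comm]; exact add_mem hx hy

lemma reduced_mem : ∀ (n : ℕ), ∀ u ∈ F k L (n + 1),
    comulU k L u - u ⊗ₜ[k] 1 - 1 ⊗ₜ[k] u ∈ G k L n := by
  intro n
  induction n with
  | zero =>
    intro u hu
    refine F_induction hu (fun c hc => ?_) (fun c hc a => ?_) fun x y hx hy => ?_
    · have hc' := hc
      rw [F, pow_zero] at hc'
      obtain ⟨r, rfl⟩ := Submodule.mem_one.mp hc'
      rw [AlgHom.commutes]
      exact sub_mem (sub_mem (by
        rw [Algebra.algebraMap_eq_smul_one, Algebra.TensorProduct.one_def]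
        exact Submodule.smul_mem _ r (tmul_mem_G (one_mem_F 0) (one_mem_F 0)))
        (tmul_mem_G hc (one_mem_F 0))) (tmul_mem_G (one_mem_F 0) hc)
    · have hc' := hc
      rw [F, pow_zero] at hc'
      obtain ⟨r, rfl⟩ := Submodule.mem_one.mp hc'
      rw [Algebra.algebraMap_eq_smul_one, smul_one_mul, map_smul, comulU_ι, smul_add,
        TensorProduct.smul_tmul', TensorProduct.tmul_smul, TensorProduct.smul_tmul']
      simp [TensorProduct.smul_tmul', TensorProduct.tmul_smul]
    · rw [map_add, TensorProduct.add_tmul, TensorProduct.tmul_add,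
        show comulU k L x + comulU k L y - (x ⊗ₜ[k] 1 + y ⊗ₜ[k] 1) - (1 ⊗ₜ[k] x + 1 ⊗ₜ[k] y) =
        (comulU k L x - x ⊗ₜ[k] 1 - 1 ⊗ₜ[k] x) + (comulU k L y - y ⊗ₜ[k] 1 - 1 ⊗ₜ[k] y) by abel]
      exact add_mem hx hy
  | succ n ih =>
    intro u hu
    have hG : G k L n ≤ G k L (n + 1) := by
      rintro _ ⟨s, rfl⟩
      induction s using TensorProduct.induction_on with
      | zero => simp
      | tmul a b => exact tmul_mem_G (F_mono (Nat.le_succ n) a.2) (F_mono (Nat.le_succ n) b.2)
      | add a b ha hb => rw [map_add]; exact add_mem ha hb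
    refine F_induction hu (fun c hc => hG (ih c hc)) (fun c hc a => ?_) fun x y hx hy => ?_
    · have hd := ih c hc
      have e : comulU k L (c * ι a) - (c * ι a) ⊗ₜ[k] 1 - 1 ⊗ₜ[k] (c * ι a) =
          (comulU k L c - c ⊗ₜ[k] 1 - 1 ⊗ₜ[k] c) * comulU k L (ι a) + c ⊗ₜ[k] ι a + ι a ⊗ₜ[k] c := by
        rw [map_mul, comulU_ι]
        simp only [sub_mul, mul_add, Algebra.TensorProduct.tmul_mul_tmul, one_mul, mul_one]
        abel
      rw [e]
      refine add_mem (add_mem ?_ (tmul_mem_G hc (F_mono (by omega) (ι_mem a))))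
        (tmul_mem_G (F_mono (by omega) (ι_mem a)) hc)
      obtain ⟨s, hs⟩ := hd
      rw [← hs]
      clear hs
      induction s using TensorProduct.induction_on with
      | zero => simp
      | tmul p q =>
        rw [TensorProduct.map_tmul, comulU_ι, mul_add, Algebra.TensorProduct.tmul_mul_tmul,
          Algebra.TensorProduct.tmul_mul_tmul, mul_one, mul_one]
        exact add_mem (tmul_mem_G (mul_ι_mem p.2 a) (F_mono (Nat.le_succ n) q.2))
          (tmul_mem_G (F_mono (Nat.le_succ n) p.2) (mul_ι_mem q.2 a))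
      | add p q hp hq => rw [map_add, add_mul]; exact add_mem hp hq
    · rw [map_add, TensorProduct.add_tmul, TensorProduct.tmul_add,
        show comulU k L x + comulU k L y - (x ⊗ₜ[k] 1 + y ⊗ₜ[k] 1) - (1 ⊗ₜ[k] x + 1 ⊗ₜ[k] y) =
        (comulU k L x - x ⊗ₜ[k] 1 - 1 ⊗ₜ[k] x) + (comulU k L y - y ⊗ₜ[k] 1 - 1 ⊗ₜ[k] y) by abel]
      exact add_mem hx hy

lemma exists_F (u : U) : ∃ n, u ∈ F k L n := by
  let A : Subalgebra k U := Algebra.adjoin k (Set.range (ι))
  have hA : ∀ x ∈ A, ∃ n, x ∈ F k L n := by
    intro x hx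
    induction hx using Algebra.adjoin_induction with
    | mem x hx => obtain ⟨a, rfl⟩ := hx; exact ⟨1, ι_mem a⟩
    | algebraMap r => exact ⟨0, by rw [Algebra.algebraMap_eq_smul_one]; exact Submodule.smul_mem _ r (one_mem_F 0)⟩
    | add x y _ _ hx hy =>
      obtain ⟨m, hm⟩ := hx; obtain ⟨n, hn⟩ := hy
      exact ⟨max m n, add_mem (F_mono (le_max_left _ _) hm) (F_mono (le_max_right _ _) hn)⟩
    | mul x y _ _ hx hy =>
      obtain ⟨m, hm⟩ := hx; obtain ⟨n, hn⟩ := hy
      exact ⟨m + n, mul_mem_F hm hn⟩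
  refine hA u ?_
  let f : L →ₗ⁅k⁆ A :=
    { toFun := fun a => ⟨ι a, Algebra.subset_adjoin ⟨a, rfl⟩⟩
      map_add' := fun a b => Subtype.ext (map_add _ a b)
      map_smul' := fun r a => Subtype.ext (map_smul _ r a)
      map_lie' := fun {a b} => Subtype.ext (LieHom.map_lie _ a b) }
  have h : A.val.comp (UniversalEnvelopingAlgebra.lift k f) = AlgHom.id k U := by
    apply UniversalEnvelopingAlgebra.hom_ext
    ext a
    show ((UniversalEnvelopingAlgebra.lift k f (ι a) : A) : U) = ι a
    rw [UniversalEnvelopingAlgebra.lift_ι_apply]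
    rfl
  have := congr($h u)
  rw [AlgHom.id_apply] at this
  rw [← this]
  exact ((UniversalEnvelopingAlgebra.lift k f) u).2

section Target
variable [CharZero k] {H : Type*} [Ring H] [Bialgebra k H]

local notation "P" => SGA3y.primLie k H
variable (k H) in
/-- The canonical map. -/
abbrev phi : UniversalEnvelopingAlgebra k (SGA3y.primLie k H) →ₐ[k] H :=
  UniversalEnvelopingAlgebra.lift k (SGA3y.primLie k H).incl

lemma counit_prim (x : P) : CoalgebraStruct.counit (R := k) (x : H) = 0 := by
  have hx : CoalgebraStruct.comul (R := k) (x : H) = (x : H) ⊗ₜ[k] (1 : H) + (1 : H) ⊗ₜ[k] (x : H) := x.2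
  have h := congr(TensorProduct.lid k H $(Coalgebra.rTensor_counit_comul (R := k) (x : H)))
  rw [hx] at h
  simp at h
  rcases h with h | h
  · exact h
  have h2 := congr(CoalgebraStruct.counit (R := k) $h)
  simpa using h2

theorem lift_injective : Function.Injective (phi k H) := by
  have hι : ∀ a : P, (phi k H) (UniversalEnvelopingAlgebra.ι k a) = (a : H) := fun a => by
    rw [UniversalEnvelopingAlgebra.lift_ι_apply]; rfl
  have hcomp : ∀ u, TensorProduct.map (phi k H).toLinearMap (phi k H).toLinearMap (comulU k P u) =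
      CoalgebraStruct.comul (R := k) ((phi k H) u) := by
    have : (Algebra.TensorProduct.map (phi k H) (phi k H)).comp (comulU k P) = (Bialgebra.comulAlgHom k H).comp (phi k H) := by
      apply UniversalEnvelopingAlgebra.hom_ext
      ext a
      show Algebra.TensorProduct.map (phi k H) (phi k H) (comulU k P (UniversalEnvelopingAlgebra.ι k a)) =
        CoalgebraStruct.comul (R := k) ((phi k H) (UniversalEnvelopingAlgebra.ι k a))
      rw [comulU_ι, map_add, Algebra.TensorProduct.map_tmul, Algebra.TensorProduct.map_tmul, hι, map_one]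
      exact a.2.symm
    exact fun u => congr($this u)
  rw [injective_iff_map_eq_zero]
  suffices ∀ n, ∀ u ∈ F k P n, (phi k H) u = 0 → u = 0 by
    intro u hu
    obtain ⟨n, hn⟩ := exists_F u
    exact this n u hn hu
  intro n
  induction n with
  | zero =>
    intro u hu h
    rw [F, pow_zero] at hu
    obtain ⟨r, rfl⟩ := Submodule.mem_one.mp hu
    rw [AlgHom.commutes] at h
    have := congr(CoalgebraStruct.counit (R := k) $h)
    simp only [Bialgebra.counit_algebraMap, map_zero] at this
    rw [this, map_zero]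
  | succ n ih =>
    intro u hu h
    rcases n with _ | n
    · rw [F, pow_one] at hu
      obtain ⟨y, hy, z, ⟨a, rfl⟩, rfl⟩ := Submodule.mem_sup.mp hu
      obtain ⟨r, rfl⟩ := Submodule.mem_span_singleton.mp hy
      rw [map_add, map_smul, map_one] at h
      rw [show (phi k H) ((UniversalEnvelopingAlgebra.ι k).toLinearMap a) = (a : H) from hι a] at h
      have hr := congr(CoalgebraStruct.counit (R := k) $h)
      simp [counit_prim] at hr
      subst hr
      rw [zero_smul, zero_add] at h ⊢
      obtain rfl : a = 0 := Subtype.ext h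
      simp
    · have hG := reduced_mem (n + 1) u hu
      have hinj : Function.Injective (TensorProduct.map
          ((phi k H).toLinearMap ∘ₗ (F k P (n + 1)).subtype) ((phi k H).toLinearMap ∘ₗ (F k P (n + 1)).subtype)) := by
        have h1 : Function.Injective ((phi k H).toLinearMap ∘ₗ (F k P (n + 1)).subtype) :=
          (injective_iff_map_eq_zero _).mpr fun x hx => Subtype.ext (ih x x.2 hx)
        rw [← LinearMap.lTensor_comp_rTensor]
        exact (Module.Flat.lTensor_preserves_injective_linearMap _ h1).comp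
          (Module.Flat.rTensor_preserves_injective_linearMap _ h1)
      obtain ⟨s, hs⟩ := hG
      have hs0 : s = 0 := hinj (by
        rw [TensorProduct.map_comp, LinearMap.comp_apply, hs, map_zero, map_sub, map_sub, hcomp, h, map_zero]
        simp [h])
      rw [hs0, map_zero] at hs
      have hΔ : comulU k P u = u ⊗ₜ[k] 1 + 1 ⊗ₜ[k] u := by
        rw [eq_comm, sub_sub, sub_eq_zero] at hs; exact hs
      have h2 := two_power (n + 1) u hu
      rw [hΔ, map_add, LinearMap.mul'_apply, LinearMap.mul'_apply, mul_one, one_mul] at h2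
      have hne : ((2 : k) - 2 ^ (n + 1 + 1)) ≠ 0 := by
        rw [sub_ne_zero]
        intro he
        have : (2 : ℕ) = 2 ^ (n + 1 + 1) := by exact_mod_cast he
        have h4 : 2 ^ 2 ≤ 2 ^ (n + 1 + 1) := Nat.pow_le_pow_right (by norm_num) (by omega)
        omega
      refine ih u ?_ h
      rw [← Submodule.smul_mem_iff _ hne]
      convert h2 using 1
      rw [sub_smul, two_smul, ← Nat.cast_smul_eq_nsmul k]
      simp

end Target

end Groth.Agent.MilnorMoore
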