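import Groth.Agent.MilnorMoore.Inj
import Groth.Agent.Comod.DualModule
import Groth.Agent.Comod.Transfer
import Mathlib.RingTheory.Artinian.Ring
import Mathlib.RingTheory.Ideal.Quotient.Operations
import Mathlib.LinearAlgebra.Dual.Lemmas

/-!
# The dual algebra of a finite subcoalgebra
-/

open TensorProduct Groth.Agent.Comod

universe u
noncomputable section
namespace Groth.Agent.MilnorMoore

variable {k : Type u} [Field k] {H : Type u} [Ring H] [Bialgebra k H]
  [Coalgebra.IsCocomm k H]

/-- A finite dimensional subcoalgebra containing the unit. -/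
structure SubC (k : Type u) [Field k] (H : Type u) [Ring H] [Bialgebra k H] where
  /-- the underlying subspace -/
  D : Submodule k H
  comul_mem : ∀ d ∈ D, CoalgebraStruct.comul (R := k) d ∈
      LinearMap.range (TensorProduct.map D.subtype D.subtype)
  finite : Module.Finite k D
  one_mem : (1 : H) ∈ D

lemma exists_subC (x : H) : ∃ C : SubC k H, x ∈ C.D := by
  classical
  obtain ⟨S, hS, hfin⟩ := exists_finite_subcomod_finset (K := k) (C := H) (V := H) {x, 1}
  exact ⟨⟨cf (V := H) (C := H) (ofDSub S), isSubcoalgebra_cf (isSubcomod_ofDSub S), finite_cf _,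
    counit_mem_cf (hS 1 (by simp))⟩, counit_mem_cf (hS x (by simp))⟩

variable (C : SubC k H)

instance : Module.Finite k C.D := C.finite

/-- The functionals vanishing on a subcoalgebra. -/
def ann : Ideal (CDual k H) where
  carrier := {f | ∀ d ∈ C.D, f.ofConv d = 0}
  add_mem' := fun hf hg d hd => by simp [hf d hd, hg d hd]
  zero_mem' := fun d _ => by simp
  smul_mem' := fun g f hf d hd => by
    obtain ⟨s, hs⟩ := C.comul_mem d hd
    rw [smul_eq_mul, LinearMap.convMul_apply, ← hs]
    clear hs
    induction s using TensorProduct.induction_on with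
    | zero => simp
    | tmul a b => simp [hf b b.2]
    | add a b ha hb => simp only [map_add, ha, hb, add_zero]

/-- The dual algebra of the subcoalgebra. -/
def DQ := CDual k H ⧸ ann C

instance : CommRing (DQ C) := inferInstanceAs (CommRing (CDual k H ⧸ ann C))

instance : Algebra k (DQ C) := inferInstanceAs (Algebra k (CDual k H ⧸ ann C))

/-- The quotient map. -/
def mkQ' : CDual k H →ₐ[k] DQ C := Ideal.Quotient.mkₐ k (ann C)

lemma mkQ'_surjective : Function.Surjective (mkQ' C) := Ideal.Quotient.mkₐ_surjective k (ann C)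

/-- Restriction of functionals. -/
def res : CDual k H →ₗ[k] Module.Dual k C.D where
  toFun f := f.ofConv ∘ₗ C.D.subtype
  map_add' f g := by ext d; simp
  map_smul' r f := by ext d; simp

/-- Evaluation. -/
def ev : DQ C →ₗ[k] Module.Dual k C.D :=
  show (CDual k H ⧸ ann C) →ₗ[k] Module.Dual k C.D from (((ann C).restrictScalars k).liftQ (res C) fun f hf =>
    LinearMap.mem_ker.mpr (LinearMap.ext fun d : C.D => hf (d : H) d.2)).comp
    ((Submodule.Quotient.restrictScalarsEquiv k (ann C)).symm.toLinearMap)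

lemma ev_mk (f : CDual k H) (d : C.D) : ev C (mkQ' C f) d = f.ofConv d := rfl

lemma ev_injective : Function.Injective (ev C) := by
  rw [injective_iff_map_eq_zero]
  intro q hq
  obtain ⟨f, rfl⟩ := mkQ'_surjective C q
  exact Ideal.Quotient.eq_zero_iff_mem.mpr fun d hd =>
    (ev_mk C f ⟨d, hd⟩).symm.trans (LinearMap.congr_fun hq _)

instance : Module.Finite k (DQ C) := Module.Finite.of_injective (ev C) (ev_injective C)

instance : IsArtinianRing (DQ C) := IsArtinianRing.of_finite k (DQ C)

lemma exists_ev (ψ : DQ C →ₗ[k] k) : ∃ d : C.D, ∀ q, ψ q = ev C q d := by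
  obtain ⟨L, hL⟩ := LinearMap.exists_leftInverse_of_injective (ev C)
    (LinearMap.ker_eq_bot.mpr (ev_injective C))
  obtain ⟨d, hd⟩ := (Module.evalEquiv k C.D).surjective (ψ ∘ₗ L)
  refine ⟨d, fun q => ?_⟩
  have := LinearMap.congr_fun hd (ev C q)
  simp only [Module.evalEquiv_apply, Module.Dual.eval_apply, LinearMap.comp_apply] at this
  rw [this, show L (ev C q) = q from LinearMap.congr_fun hL q]

lemma conv_apply (f g : CDual k H) (d : H) : (f * g).ofConv d =
    LinearMap.mul' k k (TensorProduct.map f.ofConv g.ofConv (CoalgebraStruct.comul (R := k) d)) :=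
  LinearMap.convMul_apply f g d

/-- Evaluation at the unit. -/
def evOne : CDual k H →ₐ[k] k :=
  AlgHom.ofLinearMap
    { toFun := fun f => f.ofConv 1, map_add' := fun _ _ => rfl, map_smul' := fun _ _ => rfl }
    (by simp) (fun f g => by simp [conv_apply, Algebra.TensorProduct.one_def])

/-- The augmentation of the dual algebra. -/
def augQ : DQ C →ₐ[k] k :=
  show (CDual k H ⧸ ann C) →ₐ[k] k from Ideal.Quotient.liftₐ (ann C) evOne fun _ hf => hf 1 C.one_mem

lemma augQ_eq (q : DQ C) : augQ C q = ev C q ⟨1, C.one_mem⟩ := by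
  obtain ⟨f, rfl⟩ := mkQ'_surjective C q
  rfl

lemma eq_ker_aug (hconn : SGA3y.IsConnectedCoalg k H) (M : Ideal (DQ C)) [hM : M.IsMaximal] :
    M = RingHom.ker (augQ C) := by
  let E : Submodule k H :=
    { carrier := {d | ∃ hd : d ∈ C.D, ∀ q ∈ M, ev C q ⟨d, hd⟩ = 0}
      zero_mem' := ⟨zero_mem _, fun q _ => (ev C q).map_zero⟩
      add_mem' := by
        rintro a b ⟨ha, ha'⟩ ⟨hb, hb'⟩
        exact ⟨add_mem ha hb, fun q hq => by
          rw [show (⟨a + b, add_mem ha hb⟩ : C.D) = ⟨a, ha⟩ + ⟨b, hb⟩ from rfl, map_add, ha' q hq,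
            hb' q hq, add_zero]⟩
      smul_mem' := by
        rintro r a ⟨ha, ha'⟩
        exact ⟨C.D.smul_mem r ha, fun q hq => by
          rw [show (⟨r • a, C.D.smul_mem r ha⟩ : C.D) = r • ⟨a, ha⟩ from rfl, map_smul, ha' q hq,
            smul_zero]⟩ }
  have hE : ∀ d ∈ E, CoalgebraStruct.comul (R := k) d ∈
      LinearMap.range (TensorProduct.map E.subtype E.subtype) := by
    rintro d ⟨hd, hd'⟩
    obtain ⟨hR, hL⟩ := (mem_range_map_iff _ _ _).mp (C.comul_mem d hd)
    refine (mem_range_map_iff _ _ _).mpr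
      ⟨fun f => ⟨hR f, fun q hq => ?_⟩, fun f => ⟨hL f, fun q hq => ?_⟩⟩
    · obtain ⟨g, rfl⟩ := mkQ'_surjective C q
      have h0 := hd' _ (M.mul_mem_right (mkQ' C (WithConv.toConv f)) hq)
      rw [← map_mul, ev_mk, conv_apply] at h0
      rw [ev_mk, ← h0]
      show g.ofConv (cR f (CoalgebraStruct.comul (R := k) d)) = _
      generalize CoalgebraStruct.comul (R := k) d = t
      induction t using TensorProduct.induction_on <;> simp_all [mul_comm]
    · obtain ⟨g, rfl⟩ := mkQ'_surjective C q
      have h0 := hd' _ (M.mul_mem_left (mkQ' C (WithConv.toConv f)) hq)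
      rw [← map_mul, ev_mk, conv_apply] at h0
      rw [ev_mk, ← h0]
      show g.ofConv (cL f (CoalgebraStruct.comul (R := k) d)) = _
      generalize CoalgebraStruct.comul (R := k) d = t
      induction t using TensorProduct.induction_on <;> simp_all
  have hEne : E ≠ ⊥ := by
    obtain ⟨ψ, hψ, hker⟩ := (M.restrictScalars k).exists_le_ker_of_lt_top
      (lt_top_iff_ne_top.mpr fun h => hM.ne_top ((Ideal.eq_top_iff_one _).mpr
        (show (1 : DQ C) ∈ M.restrictScalars k by rw [h]; exact Submodule.mem_top)))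
    obtain ⟨d, hd⟩ := exists_ev C ψ
    intro hE0
    have hdE : (d : H) ∈ E := ⟨d.2, fun q hq => (hd q).symm.trans (hker hq)⟩
    rw [hE0, Submodule.mem_bot] at hdE
    apply hψ
    ext q
    rw [hd q, show d = 0 from Subtype.ext hdE, map_zero, LinearMap.zero_apply]
  obtain ⟨_, h1'⟩ := hconn E hE hEne
  refine hM.eq_of_le (RingHom.ker_ne_top _) fun q hq => ?_
  rw [RingHom.mem_ker, augQ_eq]
  exact h1' q hq

lemma isNilpotent_ker_aug (hconn : SGA3y.IsConnectedCoalg k H) :
    IsNilpotent (RingHom.ker (augQ C) : Ideal (DQ C)) := by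
  obtain ⟨N, hN⟩ := IsArtinianRing.isNilpotent_jacobson_bot (R := DQ C)
  refine ⟨N, le_bot_iff.mp ((Ideal.pow_right_mono ?_ N).trans hN.le)⟩
  refine le_sInf fun M hM => ?_
  haveI := hM.2
  rw [eq_ker_aug C hconn M]

/-- Lifts of the coordinate functionals. -/
def bar (i : Fin (Module.finrank k C.D)) : DQ C :=
  mkQ' C (WithConv.toConv ((Module.finBasis k C.D).coord i).exists_extend.choose)

lemma ev_bar (i : Fin (Module.finrank k C.D)) (d : C.D) :
    ev C (bar C i) d = (Module.finBasis k C.D).repr d i := by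
  rw [bar, ev_mk]
  exact LinearMap.congr_fun ((Module.finBasis k C.D).coord i).exists_extend.choose_spec d

lemma sum_ev_bar (d : C.D) :
    ∑ i, ev C (bar C i) d • (Module.finBasis k C.D i : H) = (d : H) := by
  simp only [ev_bar]
  have := congrArg C.D.subtype ((Module.finBasis k C.D).sum_repr d)
  rw [map_sum] at this
  exact this

/-- The universal element. -/
def univ : DQ C ⊗[k] H := ∑ i, bar C i ⊗ₜ[k] (Module.finBasis k C.D i : H)

/-- First inclusion. -/
abbrev f₁ : DQ C ⊗[k] H →ₐ[k] DQ C ⊗[k] (H ⊗[k] H) :=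
  Algebra.TensorProduct.map (AlgHom.id k (DQ C)) Algebra.TensorProduct.includeLeft

/-- Second inclusion. -/
abbrev f₂ : DQ C ⊗[k] H →ₐ[k] DQ C ⊗[k] (H ⊗[k] H) :=
  Algebra.TensorProduct.map (AlgHom.id k (DQ C)) Algebra.TensorProduct.includeRight

/-- Comultiplication. -/
abbrev f₀ : DQ C ⊗[k] H →ₐ[k] DQ C ⊗[k] (H ⊗[k] H) :=
  Algebra.TensorProduct.map (AlgHom.id k (DQ C)) (Bialgebra.comulAlgHom k H)

lemma univ_mul : f₁ C (univ C) * f₂ C (univ C) = f₀ C (univ C) := by
  refine tensor_eq_of_cL fun ψ => ?_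
  obtain ⟨d, hd⟩ := exists_ev C ψ
  simp only [f₀, f₁, f₂, univ, map_sum, Finset.sum_mul_sum, Algebra.TensorProduct.map_tmul,
    AlgHom.id_apply, Algebra.TensorProduct.includeLeft_apply, Algebra.TensorProduct.includeRight_apply,
    Bialgebra.comulAlgHom_apply, Algebra.TensorProduct.tmul_mul_tmul, cL_tmul, mul_one, one_mul, hd]
  conv_rhs =>
    rw [show (∑ i, ev C (bar C i) d • CoalgebraStruct.comul (R := k) (Module.finBasis k C.D i : H)) =
      CoalgebraStruct.comul (R := k) (∑ i, ev C (bar C i) d • (Module.finBasis k C.D i : H)) by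
        simp only [map_sum, map_smul], sum_ev_bar]
  have hprod : ∀ i j, ev C (bar C i * bar C j) d = LinearMap.mul' k k (TensorProduct.map
      ((Module.finBasis k C.D).coord i).exists_extend.choose
      ((Module.finBasis k C.D).coord j).exists_extend.choose (CoalgebraStruct.comul (R := k) (d : H))) :=
    fun i j => by
      simp only [bar, ← map_mul]
      rw [ev_mk, conv_apply]
  simp only [hprod]
  obtain ⟨s, hs⟩ := C.comul_mem d d.2
  rw [← hs]
  clear hs
  induction s using TensorProduct.induction_on with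
  | zero => simp
  | add s t hs ht => simp only [map_add, add_smul, Finset.sum_add_distrib, hs, ht]
  | tmul p q =>
    simp only [TensorProduct.map_tmul, LinearMap.mul'_apply, Submodule.coe_subtype]
    conv_rhs => rw [← sum_ev_bar C p, ← sum_ev_bar C q]
    simp only [TensorProduct.sum_tmul, TensorProduct.tmul_sum, TensorProduct.smul_tmul',
      TensorProduct.tmul_smul, Finset.smul_sum, smul_smul, bar, ev_mk]
    rw [Finset.sum_comm]
    exact Finset.sum_congr rfl fun i _ => Finset.sum_congr rfl fun j _ => by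
      simp [TensorProduct.smul_tmul', smul_smul, mul_comm]

lemma univ_commute : Commute (f₁ C (univ C)) (f₂ C (univ C)) := by
  simp only [Commute, SemiconjBy, f₁, f₂, univ, map_sum, Finset.sum_mul_sum,
    Algebra.TensorProduct.map_tmul, AlgHom.id_apply, Algebra.TensorProduct.includeLeft_apply,
    Algebra.TensorProduct.includeRight_apply, Algebra.TensorProduct.tmul_mul_tmul, mul_one, one_mul]
  rw [Finset.sum_comm]
  exact Finset.sum_congr rfl fun i _ => Finset.sum_congr rfl fun j _ => by rw [mul_comm (bar C j)]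

lemma isNilpotent_univ_sub_one (hconn : SGA3y.IsConnectedCoalg k H) : IsNilpotent (univ C - 1) := by
  obtain ⟨N, hN⟩ := isNilpotent_ker_aug C hconn
  set 𝔪 : Ideal (DQ C) := RingHom.ker (augQ C)
  have ht0 : univ C - 1 ∈ LinearMap.range ((𝔪.restrictScalars k).subtype.rTensor H) := by
    refine (mem_range_rTensor_iff _ _).mpr fun φ => ?_
    show augQ C (cR φ (univ C - 1)) = 0
    simp only [univ, map_sub, map_sum, Algebra.TensorProduct.one_def, cR_tmul, map_smul]
    rw [sub_eq_zero, map_one (augQ C), smul_eq_mul (φ (1 : H)), mul_one]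
    have := congr_arg φ (sum_ev_bar C ⟨1, C.one_mem⟩)
    rw [map_sum] at this
    refine Eq.trans (Finset.sum_congr rfl fun i _ => ?_) this
    rw [map_smul, augQ_eq, smul_eq_mul, smul_eq_mul, mul_comm]
  obtain ⟨s, hs⟩ := ht0
  suffices ∀ n, (univ C - 1) ^ n ∈
      Submodule.span k {z : DQ C ⊗[k] H | ∃ m ∈ 𝔪 ^ n, ∃ h, z = m ⊗ₜ[k] h} by
    refine ⟨N, (Submodule.mem_bot k).mp (Submodule.span_le.mpr ?_ (this N))⟩
    rintro _ ⟨m, hm, h, rfl⟩
    rw [hN] at hm
    simp [(Submodule.mem_bot (DQ C)).mp hm]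
  intro n
  induction n with
  | zero => exact Submodule.subset_span ⟨1, by simp, 1, by simp [Algebra.TensorProduct.one_def]⟩
  | succ n ih =>
    rw [pow_succ (univ C - 1)]
    generalize (univ C - 1) ^ n = y at ih ⊢
    rw [← hs]
    clear hs
    induction ih using Submodule.span_induction with
    | mem z hz =>
      obtain ⟨m, hm, h, rfl⟩ := hz
      induction s using TensorProduct.induction_on with
      | zero => simp
      | tmul m' h' =>
        refine Submodule.subset_span ⟨m * m', ?_, h * h', by simp⟩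
        rw [pow_succ]; exact Ideal.mul_mem_mul hm m'.2
      | add p q hp hq => rw [map_add, mul_add]; exact add_mem hp hq
    | zero => simp
    | add p q _ _ hp hq => rw [add_mul]; exact add_mem hp hq
    | smul r p _ hp => rw [smul_mul_assoc]; exact Submodule.smul_mem _ r hp

end Groth.Agent.MilnorMoore
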