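import Groth.Agent.MilnorMoore.Exp
import Groth.Agent.MilnorMoore.SubDual
import Groth.Agent.Comod.DualModule
import Groth.Agent.Comod.Transfer
import Mathlib.RingTheory.Artinian.Ring
import Mathlib.Algebra.Algebra.Rat
import Mathlib.Algebra.Algebra.Hom.Rat
import Mathlib.RingTheory.Ideal.Quotient.Operations

/-!
# Connected cocommutative bialgebras in characteristic zero are generated by primitive elements
-/

open TensorProduct Groth.Agent.Comod
attribute [local instance] LieRing.ofAssociativeRing

universe u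
noncomputable section
namespace Groth.Agent.MilnorMoore

variable {k : Type u} [Field k] [CharZero k] {H : Type u} [Ring H] [Bialgebra k H]
  [Coalgebra.IsCocomm k H]

lemma commute_aeval {A : Type u} [Ring A] [Algebra ℚ A] (p : Polynomial ℚ) {a c : A}
    (hac : Commute a c) : Commute (Polynomial.aeval a p) c := by
  induction p using Polynomial.induction_on' with
  | add p q hp hq => rw [map_add]; exact hp.add_left hq
  | monomial n r =>
    rw [Polynomial.aeval_monomial]
    exact Commute.mul_left (Algebra.commutes r c) (hac.pow_left n)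

theorem mem_range_lift (hconn : SGA3y.IsConnectedCoalg k H) (x : H) :
    x ∈ (phi k H).range := by
  obtain ⟨C, hxD⟩ := exists_subC (k := k) x
  have hu12 := univ_mul C
  have hu_comm := univ_commute C
  let t : DQ C ⊗[k] H := univ C - 1
  have ht : IsNilpotent t := isNilpotent_univ_sub_one C hconn
  -- the logarithm
  letI : Algebra ℚ k := DivisionRing.toRatAlgebra
  letI : Algebra ℚ ((DQ C) ⊗[k] H) := Algebra.compHom ((DQ C) ⊗[k] H) (algebraMap ℚ k)
  letI : Algebra ℚ ((DQ C) ⊗[k] (H ⊗[k] H)) := Algebra.compHom ((DQ C) ⊗[k] (H ⊗[k] H)) (algebraMap ℚ k)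
  obtain ⟨p, he, hexp⟩ := exists_log ht
  set e := Polynomial.aeval t p with hedef
  have hue : IsNilpotent.exp e = (univ C) := by rw [hexp]; simp [t]
  have hmap : ∀ (F : (DQ C) ⊗[k] H →ₐ[k] (DQ C) ⊗[k] (H ⊗[k] H)), F e = Polynomial.aeval (F (univ C) - 1) p := by
    intro F
    rw [hedef]
    have h := Polynomial.aeval_algHom_apply (F.toRingHom.toRatAlgHom) t p
    refine Eq.trans ?_ (h.symm.trans ?_)
    · rfl
    · simp [t]
  have hce : Commute ((f₁ C) e) ((f₂ C) e) := by
    rw [hmap, hmap]
    have hc : Commute ((f₁ C) (univ C) - 1) ((f₂ C) (univ C) - 1) :=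
      ((hu_comm.sub_left (Commute.one_left _)).sub_right (Commute.one_right _))
    exact commute_aeval p (commute_aeval p hc.symm).symm
  have hprim : (f₀ C) e = (f₁ C) e + (f₂ C) e := by
    refine exp_inj ?_ (he.map (f₀ C)) (hce.isNilpotent_add (he.map (f₁ C)) (he.map (f₂ C))) ?_
    · rw [hmap, hmap, hmap]
      have hc : Commute ((f₁ C) (univ C)) ((f₀ C) (univ C)) ∧ Commute ((f₂ C) (univ C)) ((f₀ C) (univ C)) := by
        rw [← hu12]
        exact ⟨(Commute.refl _).mul_right hu_comm, hu_comm.symm.mul_right (Commute.refl _)⟩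
      have h2 : ∀ {a c : (DQ C) ⊗[k] (H ⊗[k] H)}, Commute a c →
          Commute (Polynomial.aeval (a - 1) p) (Polynomial.aeval (c - 1) p) := fun h =>
        commute_aeval p (commute_aeval p ((h.sub_left (Commute.one_left _)).sub_right (Commute.one_right _)).symm).symm
      exact (h2 hc.1.symm).add_right (h2 hc.2.symm)
    · rw [IsNilpotent.exp_add_of_commute hce (he.map (f₁ C)) (he.map (f₂ C)), ← IsNilpotent.map_exp he,
        ← IsNilpotent.map_exp he, ← IsNilpotent.map_exp he, hue, hu12]
  -- the coefficients of the logarithm are primitive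
  have hcoef : ∀ ψ : (DQ C) →ₗ[k] k, cL ψ e ∈ (SGA3y.primLie k H).toSubmodule := by
    intro ψ
    have h := congr(cL ψ $hprim)
    have hF : ∀ (F : H →ₐ[k] H ⊗[k] H), cL ψ (Algebra.TensorProduct.map (AlgHom.id k (DQ C)) F e) =
        F (cL ψ e) := fun F => by
      generalize e = z
      induction z using TensorProduct.induction_on <;> simp_all
    rw [map_add, hF, hF, hF] at h
    exact h
  let R : Subalgebra k ((DQ C) ⊗[k] H) :=
    (Algebra.TensorProduct.map (AlgHom.id k (DQ C)) ((phi k H).range.val)).range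
  have heR : e ∈ R := by
    let bQ := Module.finBasis k (DQ C)
    have : e = ∑ i, bQ i ⊗ₜ[k] cL (bQ.coord i) e := by
      generalize e = z
      induction z using TensorProduct.induction_on with
      | zero => simp
      | tmul q h =>
        simp only [cL_tmul, Module.Basis.coord_apply, ← TensorProduct.smul_tmul, ← TensorProduct.sum_tmul,
          bQ.sum_repr]
      | add z z' hz hz' => simp only [map_add, TensorProduct.tmul_add, Finset.sum_add_distrib, ← hz, ← hz']
    rw [this]
    refine Subalgebra.sum_mem _ fun i _ => ?_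
    exact ⟨bQ i ⊗ₜ[k] ⟨_, UniversalEnvelopingAlgebra.ι k ⟨_, hcoef (bQ.coord i)⟩,
      UniversalEnvelopingAlgebra.lift_ι_apply _ _ _⟩, by simp⟩
  have huR : (univ C) ∈ R := by
    rw [← hue, IsNilpotent.exp_eq_sum he.choose_spec]
    refine Subalgebra.sum_mem _ fun i _ => ?_
    rw [show ((i.factorial : ℚ)⁻¹) • e ^ i = (algebraMap ℚ k (i.factorial : ℚ)⁻¹) • e ^ i from rfl]
    exact R.smul_mem (R.pow_mem heR i) _
  obtain ⟨r, hr⟩ := huR
  let Φ : (DQ C) ⊗[k] H →ₗ[k] H :=
    (TensorProduct.lid k H).toLinearMap ∘ₗ ((LinearMap.flip (ev C)) ⟨x, hxD⟩).rTensor H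
  have hΦu : Φ (univ C) = x := by
    simp only [Φ, univ, map_sum, LinearMap.comp_apply, LinearMap.rTensor_tmul, LinearEquiv.coe_coe,
      TensorProduct.lid_tmul, LinearMap.flip_apply]
    exact sum_ev_bar C ⟨x, hxD⟩
  rw [← hΦu, ← hr]
  clear hr hΦu
  show Φ _ ∈ (phi k H).range.toSubmodule
  induction r using TensorProduct.induction_on with
  | zero => simp
  | tmul q s =>
    simp only [Φ, Algebra.TensorProduct.map_tmul, AlgHom.id_apply, LinearMap.comp_apply,
      LinearMap.rTensor_tmul, LinearEquiv.coe_coe, TensorProduct.lid_tmul]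
    exact Submodule.smul_mem _ _ s.2
  | add p q hp hq => rw [map_add, map_add]; exact add_mem hp hq

theorem lift_bijective (hconn : SGA3y.IsConnectedCoalg k H) : Function.Bijective (phi k H) :=
  ⟨lift_injective, fun x => mem_range_lift hconn x⟩

end Groth.Agent.MilnorMoore
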